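import Cfsg.Agent.Lib.FStarTools.Basic
import Cfsg.Agent.Lib.Components.PComponent
import Mathlib.Order.Atoms
import Mathlib.Tactic.Group

/-!
# Components inside an intersection; maximal subgroups of a simple group

Owner: helper34. Namespace `Cfsg.Agent.Lib.MaxPairs`.
-/

set_option autoImplicit false

open Cfsg Subgroup
open Cfsg.Agent.Lib Cfsg.Agent.Lib.Components
open scoped commutatorElement

namespace Cfsg.Agent.Lib.MaxPairs

variable {G : Type*} [Group G]

theorem isSubnormal_subgroupOf {K D M : Subgroup G} (h : (K.subgroupOf M).IsSubnormal) (hDM : D ≤ M) :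
    (K.subgroupOf D).IsSubnormal := by
  have := h.comap (Subgroup.inclusion hDM)
  exact this

/-- `IsComponent (K.subgroupOf M)` passes to intermediate subgroups. -/
theorem isComponent_subgroupOf {K D M : Subgroup G} (hK : IsComponent (K.subgroupOf M))
    (hKD : K ≤ D) (hDM : D ≤ M) : IsComponent (K.subgroupOf D) :=
  ⟨isSubnormal_subgroupOf hK.1 hDM, Quasisimple.of_mulEquiv hK.2
    ((Subgroup.subgroupOfEquivOfLe (hKD.trans hDM)).trans (Subgroup.subgroupOfEquivOfLe hKD).symm)⟩

theorem isQuasisimple_of_component {K M : Subgroup G} (hle : K ≤ M)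
    (hK : IsComponent (K.subgroupOf M)) : IsQuasisimple ↥K :=
  Quasisimple.of_mulEquiv hK.2 (Subgroup.subgroupOfEquivOfLe hle)

theorem component_map_conj {L H H' : Subgroup G} (g : G) (hL : L ≤ H)
    (h : H.map (MulAut.conj g).toMonoidHom = H') (hc : IsComponent (L.subgroupOf H)) :
    IsComponent ((L.map (MulAut.conj g).toMonoidHom).subgroupOf H') := by
  subst h
  have := Component.map_equiv ((MulAut.conj g).subgroupMap H) hc
  suffices he : (L.map (MulAut.conj g).toMonoidHom).subgroupOf (H.map (MulAut.conj g).toMonoidHom) =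
      (L.subgroupOf H).map ((MulAut.conj g).subgroupMap H).toMonoidHom by
    rw [he]; exact this
  ext ⟨x, hx⟩
  constructor
  · rintro ⟨l, hl, hlx⟩
    exact ⟨⟨l, hL hl⟩, hl, Subtype.ext hlx⟩
  · rintro ⟨⟨l, hlH⟩, hl, hlx⟩
    exact ⟨l, hl, congrArg Subtype.val hlx⟩

theorem normalizer_eq_of_normal [IsSimpleGroup G] {M H : Subgroup G} (hM : IsCoatom M)
    (hHM : H ≤ M) (hn : M ≤ Subgroup.normalizer (H : Set G)) (hne : H ≠ ⊥) :
    Subgroup.normalizer (H : Set G) = M := by
  rcases hM.le_iff.1 hn with h | h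
  · exfalso
    haveI : H.Normal := Subgroup.normalizer_eq_top_iff.1 h
    rcases Subgroup.Normal.eq_bot_or_eq_top (inferInstance : H.Normal) with h' | h'
    · exact hne h'
    · exact hM.1 (top_le_iff.1 (h' ▸ hHM))
  · exact h

theorem le_normalizer_map_subtype (M : Subgroup G) (N : Subgroup ↥M) [hN : N.Normal] :
    M ≤ Subgroup.normalizer (N.map M.subtype : Set G) := by
  intro g hg
  have h1 : (⟨g, hg⟩ : ↥M) ∈ Subgroup.normalizer (N : Set ↥M) := by
    rw [Subgroup.normalizer_eq_top]; trivial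
  exact Subgroup.le_normalizer_map M.subtype ⟨⟨g, hg⟩, h1, rfl⟩

/-- Two subgroups of coprime orders, both normalized by each other, commute. -/
theorem le_centralizer_of_coprime [Finite G] {A B : Subgroup G}
    (hAB : A ≤ Subgroup.normalizer (B : Set G)) (hBA : B ≤ Subgroup.normalizer (A : Set G))
    (hc : (Nat.card ↥A).Coprime (Nat.card ↥B)) : A ≤ Subgroup.centralizer (B : Set G) := by
  rw [← Subgroup.commutator_eq_bot_iff_le_centralizer, eq_bot_iff,
    ← (disjoint_of_coprime_natCard hc).eq_bot]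
  exact le_inf (Subgroup.le_normalizer_iff_commutator_le_left.1 hBA)
    (Subgroup.le_normalizer_iff_commutator_le_right.1 hAB)

variable [Finite G]

/-- If `F*(M) ≤ N` and `F*(N) ≤ M`, each component of `M` is a component of `N`. -/
theorem map_layer_le {M N : Subgroup G} (h1 : (generalizedFittingSubgroup ↥M).map M.subtype ≤ N)
    (h2 : (generalizedFittingSubgroup ↥N).map N.subtype ≤ M) :
    (layer ↥M).map M.subtype ≤ (layer ↥N).map N.subtype := by
  rw [Subgroup.map_le_iff_le_comap]
  refine sSup_le fun K hK => ?_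
  rw [← Subgroup.map_le_iff_le_comap]
  set K' := K.map M.subtype
  have hKM : K' ≤ M := Subgroup.map_subtype_le _
  have hKN : K' ≤ N := (Subgroup.map_mono ((Layer.component_le_layer hK).trans
    GenFitting.layer_le_generalizedFitting)).trans h1
  have hK' : IsComponent (K'.subgroupOf M) := by
    rwa [Subgroup.subgroupOf, Subgroup.comap_map_eq_self_of_injective M.subtype_injective]
  set FN := (generalizedFittingSubgroup ↥N).map N.subtype with hFN
  have hFD : FN ≤ M ⊓ N := le_inf h2 (Subgroup.map_subtype_le _)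
  have hFn : (FN.subgroupOf (M ⊓ N)).Normal :=
    Subgroup.normal_subgroupOf_of_le_normalizer (inf_le_right.trans (le_normalizer_map_subtype N _))
  have hKD : IsComponent (K'.subgroupOf (M ⊓ N)) :=
    isComponent_subgroupOf hK' (le_inf hKM hKN) inf_le_left
  rcases Component.le_or_commutator_eq_bot hKD hFn.isSubnormal with h | h
  · have hKF : K' ≤ FN := fun x hx => h (show (⟨x, hKM hx, hKN hx⟩ : ↥(M ⊓ N)) ∈ K'.subgroupOf (M ⊓ N) from hx)
    have h3 : (K'.subgroupOf FN).IsSubnormal := isSubnormal_subgroupOf hKD.1 hFD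
    have h4 : (K'.subgroupOf N).IsSubnormal := by
      refine Subgroup.IsSubnormal.trans (H := K'.subgroupOf N) (K := generalizedFittingSubgroup ↥N) ?_ ?_
        (Subgroup.Normal.isSubnormal inferInstance)
      · intro x hx
        obtain ⟨y, hy, hyx⟩ := hKF hx
        exact (N.subtype_injective hyx) ▸ hy
      · exact h3.comap (((generalizedFittingSubgroup ↥N).equivMapOfInjective N.subtype
          N.subtype_injective).toMonoidHom)
    have hc : IsComponent (K'.subgroupOf N) :=
      ⟨h4, Quasisimple.of_mulEquiv (isQuasisimple_of_component hKM hK')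
        (Subgroup.subgroupOfEquivOfLe hKN).symm⟩
    have := Subgroup.map_mono (f := N.subtype) (Layer.component_le_layer hc)
    rwa [Subgroup.map_subgroupOf_eq_of_le hKN] at this
  · exfalso
    rw [Components.commutator_subgroupOf_eq_bot_iff hFD (le_inf hKM hKN), Subgroup.commutator_comm,
      Subgroup.commutator_eq_bot_iff_le_centralizer] at h
    have hsub : K'.subgroupOf N ≤ Subgroup.centralizer (generalizedFittingSubgroup ↥N : Set ↥N) := by
      intro x hx
      exact Subgroup.mem_centralizer_iff.2 fun y hy => Subtype.ext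
        (Subgroup.mem_centralizer_iff.1 (h hx) y ⟨y, hy, rfl⟩)
    have h5 := hsub.trans (FStarTools.center_genFitting_le (X := ↥N))
    have hs := FStarTools.isSolvable_fitting (X := ↥N)
    have : Group.IsSolvable ↥(K'.subgroupOf N) :=
      Group.isSolvable_of_isSolvable_injective (f := Subgroup.inclusion h5)
        (Subgroup.inclusion_injective h5)
    have e : ↥(K'.subgroupOf N) ≃* ↥K' := Subgroup.subgroupOfEquivOfLe hKN
    exact Quasisimple.not_isSolvable (isQuasisimple_of_component hKM hK')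
      (Group.isSolvable_of_surjective (f := e.toMonoidHom) e.surjective)

/-- `O_p(M)` inside `G`. -/
abbrev P1 (p : ℕ) (M : Subgroup G) : Subgroup G := (pCore p ↥M).map M.subtype

/-- The `p'`-part of `F(M)` inside `G`. -/
abbrev Q1 (p : ℕ) (M : Subgroup G) : Subgroup G :=
  (pPrimeCore p ↥M ⊓ fittingSubgroup ↥M).map M.subtype

theorem fitting_le_sup (p : ℕ) [hp : Fact p.Prime] (M : Subgroup G) :
    (fittingSubgroup ↥M).map M.subtype ≤ P1 p M ⊔ Q1 p M := by
  rw [Cores.fittingSubgroup_eq_iSup_pCore, Subgroup.map_iSup]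
  refine iSup_le fun q => ?_
  by_cases hq : (q : ℕ) = p
  · rw [hq]
    exact le_sup_left
  · haveI : Fact (q : ℕ).Prime := ⟨q.2⟩
    refine le_sup_of_le_right (Subgroup.map_mono (le_inf (Cores.le_pPrimeCore ?_)
      (Cores.pCore_le_fittingSubgroup _)))
    obtain ⟨k, hk⟩ := IsPGroup.iff_card.mp (Cores.pCore_isPGroup (G := ↥M) (q : ℕ))
    rw [hk]
    exact ((Nat.coprime_primes q.2 hp.out).mpr hq).pow_left k

theorem card_coprime {p : ℕ} [hp : Fact p.Prime] (M N : Subgroup G) :
    (Nat.card ↥(P1 p M)).Coprime (Nat.card ↥(Q1 p N)) := by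
  rw [Subgroup.card_map_of_injective M.subtype_injective,
    Subgroup.card_map_of_injective N.subtype_injective]
  obtain ⟨k, hk⟩ := IsPGroup.iff_card.mp (Cores.pCore_isPGroup (G := ↥M) p)
  rw [hk]
  exact Nat.Coprime.pow_left k
    ((Nat.Coprime.of_dvd_left (Subgroup.card_dvd_of_le inf_le_left) (Cores.pPrimeCore_coprime p)).symm)

theorem P1_le_fitting {p : ℕ} [Fact p.Prime] (M : Subgroup G) :
    P1 p M ≤ (fittingSubgroup ↥M).map M.subtype :=
  Subgroup.map_mono (Cores.pCore_le_fittingSubgroup p)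

theorem Q1_le_fitting {p : ℕ} (M : Subgroup G) : Q1 p M ≤ (fittingSubgroup ↥M).map M.subtype :=
  Subgroup.map_mono inf_le_right

variable {p : ℕ} [Fact p.Prime] {M N : Subgroup G}
  (hF1 : (fittingSubgroup ↥M).map M.subtype ≤ N) (hF2 : (fittingSubgroup ↥N).map N.subtype ≤ M)
  (hE1 : layer ↥M = ⊥) (hE2 : layer ↥N = ⊥)

include hF1 hF2 in
theorem P1_le_centralizer_Q1 : P1 p M ≤ Subgroup.centralizer (Q1 p N : Set G) :=
  le_centralizer_of_coprime (((P1_le_fitting M).trans hF1).trans (le_normalizer_map_subtype N _))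
    (((Q1_le_fitting N).trans hF2).trans (le_normalizer_map_subtype M _)) (card_coprime M N)

include hE2 in
theorem eq_bot_of_commute {A : Subgroup G} (hA : A ≤ N)
    (hc : A ≤ Subgroup.centralizer (Q1 p N : Set G)) (hP : P1 p N = ⊥)
    (hcop : (Nat.card ↥A).Coprime (Nat.card ↥(Q1 p N))) : A = ⊥ := by
  have hle : A ≤ Q1 p N := by
    intro a ha
    have h1 : (⟨a, hA ha⟩ : ↥N) ∈ Subgroup.centralizer (fittingSubgroup ↥N : Set ↥N) :=
      Subgroup.mem_centralizer_iff.2 fun y hy => Subtype.ext <| by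
        have hy' : (y : G) ∈ P1 p N ⊔ Q1 p N := fitting_le_sup p N ⟨y, hy, rfl⟩
        rw [hP, bot_sup_eq] at hy'
        exact Subgroup.mem_centralizer_iff.1 (hc ha) _ hy'
    have h2 := (FStarTools.centralizer_fitting_le_iff.2 hE2) h1
    have h3 : a ∈ P1 p N ⊔ Q1 p N := fitting_le_sup p N ⟨_, h2, rfl⟩
    rwa [hP, bot_sup_eq] at h3
  have := (disjoint_of_coprime_natCard hcop).eq_bot
  rwa [inf_eq_left.2 hle] at this

include hF1 hF2 hE1 in
theorem P1_le_P1 [IsSimpleGroup G] (hN : IsCoatom N) (hQ : Q1 p N ≠ ⊥) : P1 p N ≤ P1 p M := by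
  set P2 := P1 p N
  set Q2 := Q1 p N
  have hP2M : P2 ≤ M := (P1_le_fitting N).trans hF2
  have hQ2M : Q2 ≤ M := (Q1_le_fitting N).trans hF2
  have hQ1n : M ≤ Subgroup.normalizer (Q1 p M : Set G) := le_normalizer_map_subtype M _
  set Q1' := pPrimeCore p ↥M ⊓ fittingSubgroup ↥M
  set C : Subgroup ↥M := Subgroup.centralizer (Q1' : Set ↥M) with hC
  have hCn : C.Normal := inferInstance
  set D : Subgroup ↥M := Subgroup.centralizer (pCore p ↥M : Set ↥M) with hD
  have hQ2D : Q2.subgroupOf M ≤ D := by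
    intro b hb
    refine Subgroup.mem_centralizer_iff.2 fun y hy => Subtype.ext ?_
    exact (Subgroup.mem_centralizer_iff.1 (P1_le_centralizer_Q1 hF1 hF2 (show (y : G) ∈ P1 p M from ⟨y, hy, rfl⟩)) _ hb).symm
  have hP2C : P2.subgroupOf M ≤ C := by
    intro b hb
    refine Subgroup.mem_centralizer_iff.2 fun y hy => Subtype.ext ?_
    exact Subgroup.mem_centralizer_iff.1 (P1_le_centralizer_Q1 hF2 hF1 hb) _
      (show (y : G) ∈ Q1 p M from ⟨y, hy, rfl⟩)
  have hCD : ⁅D, C⁆ ≤ Subgroup.centralizer (fittingSubgroup ↥M : Set ↥M) := by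
    refine (Subgroup.commutator_le_inf (H₁ := D) (H₂ := C)).trans ?_
    rintro x ⟨hxD, hxC⟩
    refine Subgroup.mem_centralizer_iff.2 fun y hy => Subtype.ext ?_
    have hy' : (y : G) ∈ P1 p M ⊔ Q1 p M := fitting_le_sup p M ⟨y, hy, rfl⟩
    have hsup : P1 p M ⊔ Q1 p M ≤ Subgroup.centralizer ({(x : G)} : Set G) := by
      refine sup_le ?_ ?_
      · rintro _ ⟨z, hz, rfl⟩
        exact Subgroup.mem_centralizer_singleton_iff.2
          (congrArg Subtype.val (Subgroup.mem_centralizer_iff.1 hxD z hz))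
      · rintro _ ⟨z, hz, rfl⟩
        exact Subgroup.mem_centralizer_singleton_iff.2
          (congrArg Subtype.val (Subgroup.mem_centralizer_iff.1 hxC z hz))
    exact Subgroup.mem_centralizer_singleton_iff.1 (hsup hy')
  have hCM : Subgroup.centralizer (fittingSubgroup ↥M : Set ↥M) ≤ fittingSubgroup ↥M :=
    FStarTools.centralizer_fitting_le_iff.2 hE1
  -- p-elements of `C` centralize `Q2`
  have key : ∀ c ∈ C, (∃ n : ℕ, c ^ p ^ n = 1) → (c : G) ∈ Subgroup.centralizer (Q2 : Set G) := by
    rintro c hc ⟨n, hn⟩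
    refine Subgroup.mem_centralizer_iff.2 fun b hb => ?_
    set b' : ↥M := ⟨b, hQ2M hb⟩
    set k := Nat.card ↥Q2 * Nat.card ↥Q1'
    have hcopk : k.Coprime p := by
      refine Nat.Coprime.mul_left ?_ ?_
      · show (Nat.card ↥(Q1 p N)).Coprime p
        rw [Subgroup.card_map_of_injective N.subtype_injective]
        exact Nat.Coprime.of_dvd_left (Subgroup.card_dvd_of_le inf_le_left) (Cores.pPrimeCore_coprime p)
      · exact Nat.Coprime.of_dvd_left (Subgroup.card_dvd_of_le inf_le_left) (Cores.pPrimeCore_coprime p)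
    have hz := hCD (Subgroup.commutator_mem_commutator (hQ2D hb : b' ∈ D) hc)
    set z := ⁅b', c⁆ with hzdef
    have hzF : z ∈ fittingSubgroup ↥M := hCM hz
    obtain ⟨hzQ, hcz⟩ : z ∈ Q1' ∧ Commute c z := by
      -- split `z` along `O_p(M)` and the p'-part
      have hmem : (z : G) ∈ ((P1 p M ⊔ Q1 p M : Subgroup G) : Set G) := fitting_le_sup p M ⟨z, hzF, rfl⟩
      rw [Subgroup.coe_mul_of_left_le_normalizer_right _ _
        ((Subgroup.map_subtype_le _).trans hQ1n)] at hmem
      obtain ⟨_, ⟨u, hu, rfl⟩, _, ⟨v, hv, rfl⟩, huv⟩ := hmem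
      have huv' : u * v = z := Subtype.ext huv
      have hvc : Commute v c := Subgroup.mem_centralizer_iff.1 hc v hv
      have hu1 : u = 1 := by
        have hvb : Commute u b' := Subgroup.mem_centralizer_iff.1 (hQ2D hb) u hu
        have hvu : Commute u v := by
          have hq : Commute (z : ↥M) v :=
            (Subgroup.mem_centralizer_iff.1 hz v (inf_le_right (a := pPrimeCore p ↥M) hv)).symm
          have : u = z * v⁻¹ := by rw [← huv', mul_inv_cancel_right]
          rw [this]
          exact hq.mul_left (Commute.refl v).inv_left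
        have hb2 : b'⁻¹ * (c * b' * c⁻¹) = b'⁻¹ * (v⁻¹ * u⁻¹) * b' := by
          rw [← mul_inv_rev, huv', hzdef, commutatorElement_def]; group
        have hcb : c * b' * c⁻¹ = u⁻¹ * (v⁻¹ * b') := by
          have h' : c * b' * c⁻¹ = (v⁻¹ * u⁻¹) * b' := by
            have := mul_left_cancel (hb2.trans (mul_assoc _ _ _))
            exact this
          rw [h', ← (hvu.inv_inv).eq, mul_assoc]
        -- the element `v⁻¹ b'` has order prime to `p`
        set W : Subgroup ↥M := Q2.subgroupOf M ⊔ Q1'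
        have hw : v⁻¹ * b' ∈ W := mul_mem (Subgroup.mem_sup_right (inv_mem hv))
          (Subgroup.mem_sup_left hb)
        have hWk : Nat.card ↥W ∣ k := by
          have := Cores.card_sup_dvd_mul (Q2.subgroupOf M) Q1'
          rwa [Nat.card_congr (Subgroup.subgroupOfEquivOfLe hQ2M).toEquiv] at this
        have hwk : (v⁻¹ * b') ^ k = 1 :=
          orderOf_dvd_iff_pow_eq_one.1 ((Subgroup.orderOf_dvd_natCard _ hw).trans hWk)
        have hbk : b' ^ k = 1 := by
          refine orderOf_dvd_iff_pow_eq_one.1 (dvd_trans ?_ (dvd_mul_right _ _))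
          rw [← Subgroup.orderOf_coe]
          exact Subgroup.orderOf_dvd_natCard _ hb
        have hcom : Commute u⁻¹ (v⁻¹ * b') :=
          (hvu.inv_right.mul_right hvb).inv_left
        have h1 := congrArg (· ^ k) hcb
        simp only [conj_pow, hbk, hcom.mul_pow, hwk, mul_one, mul_inv_cancel] at h1
        have h2 : u ^ k = 1 := by rw [← inv_inv u, inv_pow, ← h1, inv_one]
        obtain ⟨j, hj⟩ := Cores.pCore_isPGroup (G := ↥M) p ⟨u, hu⟩
        rw [← orderOf_eq_one_iff]
        exact Nat.eq_one_of_dvd_coprimes (hcopk.symm.pow_left j)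
          (orderOf_dvd_of_pow_eq_one (congrArg Subtype.val hj)) (orderOf_dvd_of_pow_eq_one h2)
      rw [hu1, one_mul] at huv'
      rw [← huv']
      exact ⟨hv, hvc.symm⟩
    -- iterate
    have hit : ∀ m : ℕ, c ^ m * b' * (c ^ m)⁻¹ = z⁻¹ ^ m * b' := by
      intro m
      induction m with
      | zero => simp
      | succ m ih =>
        calc c ^ (m + 1) * b' * (c ^ (m + 1))⁻¹ = c * (c ^ m * b' * (c ^ m)⁻¹) * c⁻¹ := by
              rw [pow_succ']; group
          _ = c * (z⁻¹ ^ m * b') * c⁻¹ := by rw [ih]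
          _ = z⁻¹ ^ m * (c * b' * c⁻¹) := by
            rw [← mul_assoc c, ((hcz.inv_right).pow_right m).eq]; group
          _ = z⁻¹ ^ (m + 1) * b' := by
            rw [pow_succ, mul_assoc (z⁻¹ ^ m) z⁻¹ b']
            congr 1
            rw [hzdef, commutatorElement_def]; group
    have h3 := hit (p ^ n)
    rw [hn, inv_one, one_mul, mul_one] at h3
    have h4 : z⁻¹ ^ p ^ n = 1 := mul_eq_right.1 h3.symm
    -- `z` has order prime to `p`
    have h5 : z = 1 := by
      rw [inv_pow, inv_eq_one] at h4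
      rw [← orderOf_eq_one_iff]
      exact Nat.eq_one_of_dvd_coprimes
        ((Nat.Coprime.of_dvd_left (Subgroup.card_dvd_of_le inf_le_left)
          (Cores.pPrimeCore_coprime p)).pow_right n)
        (Subgroup.orderOf_dvd_natCard _ hzQ) (orderOf_dvd_of_pow_eq_one h4)
    rw [hzdef, commutatorElement_eq_one_iff_mul_comm] at h5
    exact congrArg Subtype.val h5
  set S : Set ↥M := {c | c ∈ C ∧ ∃ n : ℕ, c ^ p ^ n = 1} with hS
  set C0 := Subgroup.closure S with hC0
  have hC0N : C0.map M.subtype ≤ N := by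
    have hle : C0.map M.subtype ≤ Subgroup.centralizer (Q2 : Set G) := by
      rw [Subgroup.map_le_iff_le_comap, hC0, Subgroup.closure_le]
      exact fun c hc => key c hc.1 hc.2
    refine hle.trans ((Subgroup.centralizer_le_normalizer _).trans (le_of_eq ?_))
    exact normalizer_eq_of_normal hN (Subgroup.map_subtype_le _) (le_normalizer_map_subtype N _) hQ
  have hC0n : C0.Normal := by
    refine ⟨fun x hx g => ?_⟩
    have hle : C0 ≤ C0.comap (MulAut.conj g).toMonoidHom := by
      rw [hC0, Subgroup.closure_le]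
      rintro c ⟨hc1, n, hn⟩
      exact Subgroup.subset_closure ⟨hCn.conj_mem c hc1 g, n, by
        show (g * c * g⁻¹) ^ _ = 1
        rw [conj_pow, hn, mul_one, mul_inv_cancel]⟩
    exact hle hx
  have hP2p : IsPGroup p ↥P2 := (Cores.pCore_isPGroup p).map _
  have hP2' : IsPGroup p ↥(P2.subgroupOf M) := hP2p.of_equiv (Subgroup.subgroupOfEquivOfLe hP2M).symm
  have hsub : P2.subgroupOf M ≤ C0 := by
    intro x hx
    obtain ⟨n, hn⟩ := hP2' ⟨x, hx⟩
    exact Subgroup.subset_closure ⟨hP2C hx, n, congrArg Subtype.val hn⟩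
  have hsn : (P2.subgroupOf M).IsSubnormal := by
    refine Subgroup.IsSubnormal.step _ C0 hsub hC0n.isSubnormal
      ((Subgroup.normal_subgroupOf_iff_le_normalizer hsub).2 fun x hx => ?_)
    have hxN : (x : G) ∈ N := hC0N ⟨x, hx, rfl⟩
    have h1 := Subgroup.mem_normalizer_iff.1 (le_normalizer_map_subtype N (pCore p ↥N) hxN)
    rw [Subgroup.mem_normalizer_iff]
    intro y
    exact h1 y
  have h2 := Subgroup.map_mono (f := M.subtype) (Cores.IsSubnormal.le_pCore hsn hP2')
  rwa [Subgroup.map_subgroupOf_eq_of_le hP2M] at h2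

end Cfsg.Agent.Lib.MaxPairs
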